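import Groth.Agent.Lib.FMK22.PushTest
import Groth.Agent.Lib.FMK22.RGamma
import Groth.Agent.Lib.ShriekBridge22.ClosedRHom
import Groth.Agent.Lib.ClosedFlatBC29.Basic
import Groth.Agent.Lib.DualRing.SchemePull
import Groth.Agent.Lib.SuppTens22.Basic
import Groth.Agent.Lib.FMId25.Closed
import Groth.Agent.Lib.OX.Adjunction
import Groth.Agent.Lib.AlgSp.FieldBase

/-!
# Derived tensor products as derived restrictions to the diagonal
-/

set_option autoImplicit false
set_option maxHeartbeats 1600000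
set_option linter.style.haveILetI false
set_option backward.isDefEq.respectTransparency false
universe u

open CategoryTheory CategoryTheory.Limits AlgebraicGeometry HomologicalComplex
open DerivedCategory (Q)
attribute [local instance] HasDerivedCategory.standard

noncomputable section

namespace GrothLib.DiagTensor22

open GrothLib.OX GrothLib.FMK22 GrothLib.FMId25

variable {X Y : Scheme.{u}}

/-- Derived tensor products of modules commute. -/
theorem nonempty_ltensor_comm (M N : CochainComplex X.Modules ℤ) (hN : DCoh.IsKFlat N) [DCoh.HasLTensorCx M]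
    [DCoh.HasLTensorCx N] :
    Nonempty ((DCoh.LTensorCx M).obj (Q.obj N) ≅ (DCoh.LTensorCx N).obj (Q.obj M)) := by
  obtain ⟨v⟩ := ltensorCx_value M N hN
  obtain ⟨a⟩ := ltensorCx_value_of_isKFlat N hN M
  exact ⟨v ≪≫ Q.mapIso (tensorCxSymm M N) ≪≫ a.symm⟩

/-- Flat inverse image of the structure sheaf of a closed subscheme. -/
theorem nonempty_lpull_push_flat {Z X' Z' : Scheme.{u}} {i' : Z' ⟶ X'} {r : Z' ⟶ Z} {q : X' ⟶ X} {i : Z ⟶ X}
    (sq : IsPullback i' r q i) [IsClosedImmersion i] [IsClosedImmersion i'] [Flat q] [DCoh.HasLpull q] :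
    Nonempty ((DCoh.Lpull q).obj (DCoh.inD X ((Scheme.Modules.pushforward i).obj (Coh.structureModule Z))) ≅
      DCoh.inD X' ((Scheme.Modules.pushforward i').obj (Coh.structureModule Z'))) := by
  haveI := additive_pullback q
  haveI := preservesFiniteLimits_pullback_of_flat q
  haveI : PreservesColimitsOfSize.{u, u} (Scheme.Modules.pullback q) :=
    (Scheme.Modules.pullbackPushforwardAdjunction q).leftAdjoint_preservesColimits
  haveI : PreservesFiniteColimits (Scheme.Modules.pullback q) := inferInstance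
  obtain ⟨l⟩ := DualRing.nonempty_lpull_flat q
  obtain ⟨b⟩ := ClosedFlatBC29.nonempty_pushBC sq
  exact ⟨l.app _ ≪≫ ((Scheme.Modules.pullback q).mapDerivedCategorySingleFunctor 0).app _ ≪≫
    (DerivedCategory.singleFunctor X'.Modules 0).mapIso (b.app _ ≪≫
      (Scheme.Modules.pushforward i').mapIso (pullUnitIso r))⟩

variable {k : Type u} [Field k]

/-- **The derived tensor product of two closed subschemes over a field is the derived restriction of their
product to the diagonal.** -/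
theorem nonempty_ltensor_iso_lpull_diagonal {Y₁ Y₂ : Scheme.{u}} (f : X ⟶ Spec (CommRingCat.of k))
    (i₁ : Y₁ ⟶ X) (i₂ : Y₂ ⟶ X) [IsClosedImmersion i₁] [IsClosedImmersion i₂]
    [DCoh.HasLTensorMod ((Scheme.Modules.pushforward i₂).obj (Coh.structureModule Y₂))]
    [DCoh.HasLpull (pullback.diagonal f)] :
    Nonempty ((DCoh.LTensorMod ((Scheme.Modules.pushforward i₂).obj (Coh.structureModule Y₂))).obj
        (DCoh.inD X ((Scheme.Modules.pushforward i₁).obj (Coh.structureModule Y₁))) ≅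
      (DCoh.Lpull (pullback.diagonal f)).obj (DCoh.inD (pullback f f)
        ((Scheme.Modules.pushforward (pullback.map (i₁ ≫ f) (i₂ ≫ f) f f i₁ i₂ (𝟙 (Spec (CommRingCat.of k)))
          (Category.comp_id _) (Category.comp_id _))).obj
          (Coh.structureModule (pullback (i₁ ≫ f) (i₂ ≫ f)))))) := by
  let K := Spec (CommRingCat.of k)
  let J := pullback.map (i₁ ≫ f) (i₂ ≫ f) f f i₁ i₂ (𝟙 K) (Category.comp_id _) (Category.comp_id _)
  let p := pullback.fst f f
  let q := pullback.snd f f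
  let δ := pullback.diagonal f
  let j : pullback (i₁ ≫ f) f ⟶ pullback f f := pullback.map _ _ _ _ i₁ (𝟙 X) (𝟙 K) (Category.comp_id _) ((Category.comp_id _).trans (Category.id_comp _).symm)
  let c : pullback (i₁ ≫ f) (i₂ ≫ f) ⟶ pullback (i₁ ≫ f) f :=
    pullback.map _ _ _ _ (𝟙 Y₁) i₂ (𝟙 K) ((Category.comp_id _).trans (Category.id_comp _).symm) (Category.comp_id _)
  let b := pullback.snd (i₁ ≫ f) f
  have hcj : c ≫ j = J := by
    apply pullback.hom_ext <;> simp [c, j, J]
  have hjq : j ≫ q = b := by simp [j, q, b]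
  have sq₁ : IsPullback j (pullback.fst (i₁ ≫ f) f) p i₁ := by
    refine IsPullback.flip (IsPullback.of_bot ?_ (by simp [j, p]) (IsPullback.of_hasPullback f f))
    simpa [j] using (IsPullback.of_hasPullback (i₁ ≫ f) f)
  have sq₂ : IsPullback c (pullback.snd (i₁ ≫ f) (i₂ ≫ f)) b i₂ := by
    refine IsPullback.of_right ?_ (by simp [c, b]) (IsPullback.of_hasPullback (i₁ ≫ f) f).flip.flip
    simpa [c] using (IsPullback.of_hasPullback (i₁ ≫ f) (i₂ ≫ f))
  haveI : IsClosedImmersion j := MorphismProperty.of_isPullback sq₁.flip ‹IsClosedImmersion i₁›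
  haveI : IsClosedImmersion c := MorphismProperty.of_isPullback sq₂.flip ‹IsClosedImmersion i₂›
  haveI : Flat f := AlgSp.flat_to_field f
  haveI : Flat (i₁ ≫ f) := AlgSp.flat_to_field _
  haveI : Flat p := inferInstance
  haveI : Flat q := inferInstance
  haveI : Flat b := inferInstance
  let M₁ := (Scheme.Modules.pushforward i₁).obj (Coh.structureModule Y₁)
  let M₂ := (Scheme.Modules.pushforward i₂).obj (Coh.structureModule Y₂)
  haveI := hasLpull p; haveI := hasLpull q; haveI := hasLpull b; haveI := hasLpull j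
  obtain ⟨e₁⟩ := nonempty_lpull_push_flat sq₁
  obtain ⟨e₂⟩ := nonempty_lpull_push_flat sq₂
  haveI := preservesHomology_pushforward j
  haveI : PreservesFiniteLimits (Scheme.Modules.pushforward j) := inferInstance
  haveI : PreservesFiniteColimits (Scheme.Modules.pushforward j) := inferInstance
  let E₁ := (pushCxF j).obj (unitCx (pullback (i₁ ≫ f) f))
  let eE₁ : Q.obj E₁ ≅ (DCoh.Lpull p).obj (DCoh.inD X M₁) :=
    Q.mapIso ((singleMapHomologicalComplex (Scheme.Modules.pushforward j) (ComplexShape.up ℤ) 0).app _) ≪≫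
      ((DerivedCategory.singleFunctorIsoCompQ _ 0).app _).symm ≪≫ e₁.symm
  haveI := hasLTensorCx E₁
  obtain ⟨P₁⟩ := ShriekBridge22.nonempty_LTensorCx_push_unit j
  -- the product of the two structure sheaves
  let T := (DCoh.Lpull q).obj (DCoh.inD X M₂)
  haveI := hasLpull (j ≫ q)
  let eB : (DCoh.LTensorCx E₁).obj T ≅ DCoh.inD (pullback f f) ((Scheme.Modules.pushforward J).obj
      (Coh.structureModule (pullback (i₁ ≫ f) (i₂ ≫ f)))) :=
    P₁.app T ≪≫ (Dual3.pushD j).mapIso ((lpullCompIso j q).app _ ≪≫ (lpullCongr hjq).app _ ≪≫ e₂) ≪≫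
      ((Scheme.Modules.pushforward j).mapDerivedCategorySingleFunctor 0).app _ ≪≫
      (DerivedCategory.singleFunctor _ 0).mapIso ((Scheme.Modules.pushforwardComp c j).app _ ≪≫
        (Scheme.Modules.pushforwardCongr hcj).app _)
  -- restriction to the diagonal
  obtain ⟨R₁, hR₁, ⟨eR₁⟩⟩ := exists_kflat_rep (Q.obj E₁)
  haveI := hasLTensorCx R₁
  obtain ⟨cR⟩ := FMK22.nonempty_ltensorCx_congr eR₁.symm T
  let R := ((Scheme.Modules.pullback δ).mapHomologicalComplex (ComplexShape.up ℤ)).obj R₁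
  haveI := hasLTensorCx R
  haveI := hasLpull (δ ≫ p); haveI := hasLpull (δ ≫ q); haveI := hasLpull (𝟙 X)
  obtain ⟨lt⟩ := SuppTens22.nonempty_lpull_ltensor δ R₁ hR₁ T
  obtain ⟨wR⟩ := lpull_value δ R₁ hR₁
  obtain ⟨id₁⟩ := FMId25.nonempty_lpull_id X
  let S₁ := (single X.Modules (ComplexShape.up ℤ) 0).obj M₁
  let S₂ := (single X.Modules (ComplexShape.up ℤ) 0).obj M₂
  let eR : Q.obj R ≅ DCoh.inD X M₁ :=
    wR.symm ≪≫ (DCoh.Lpull δ).mapIso (eR₁ ≪≫ eE₁) ≪≫ (lpullCompIso δ p).app _ ≪≫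
      (lpullCongr (pullback.diagonal_fst f)).app _ ≪≫ id₁.app _
  let eT : (DCoh.Lpull δ).obj T ≅ Q.obj S₂ :=
    (lpullCompIso δ q).app _ ≪≫ (lpullCongr (pullback.diagonal_snd f)).app _ ≪≫ id₁.app _ ≪≫
      (DerivedCategory.singleFunctorIsoCompQ _ 0).app _
  haveI := hasLTensorCx S₂
  obtain ⟨cm⟩ := nonempty_ltensor_comm S₂ R (isKFlat_pullback δ hR₁)
  obtain ⟨tm⟩ := FMK22.nonempty_LTensorMod_natIso M₂
  exact ⟨tm.app _ ≪≫ (DCoh.LTensorCx S₂).mapIso eR.symm ≪≫ cm ≪≫ (DCoh.LTensorCx R).mapIso eT.symm ≪≫ lt.symm ≪≫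
    (DCoh.Lpull δ).mapIso (cR.symm ≪≫ eB)⟩

end GrothLib.DiagTensor22
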